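import Groth.Agent.JacLib.EllAbel
import Mathlib.CategoryTheory.Monoidal.Cartesian.CommGrp_
import Mathlib.CategoryTheory.Monoidal.Cartesian.CommMon_

/-!
# The group law of a family of curves of genus one with a section
-/

set_option autoImplicit false
set_option backward.isDefEq.respectTransparency false
set_option backward.isDefEq.respectTransparency.types false
set_option linter.style.haveILetI false
set_option maxHeartbeats 1600000

universe u

open CategoryTheory CategoryTheory.Limits AlgebraicGeometry Opposite MonoidalCategory CartesianMonoidalCategory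
open scoped MonObj
open Groth.Agent.PicLib Groth.Agent.AbDualLib Groth.Agent.InvDescLib Groth.Agent.JacLib

noncomputable section

namespace Groth.Agent.EllGrpLib

variable {C S : Scheme.{u}} (f : C ⟶ S) [IsProper f] [SmoothOfRelativeDimension 1 f] [GeometricallyConnected f]
  (hdim : ∀ s : S, topologicalKrullDim ↥(f.fiber s) = 1)
  (hg : ∀ s : S, CohIII.fiberRank f (Coh.structureModule C) 1 s = 1) (e : S ⟶ C) (he : e ≫ f = 𝟙 S)

/-- Classes modulo classes from the base. -/
abbrev RelPic (T : Over S) : Type (u + 1) := Pic (PicF.XT f T) ⧸ (pull (PicF.XTproj f T)).range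

theorem le_comap {T T' : Over S} (g : T' ⟶ T) :
    (pull (PicF.XTproj f T)).range ≤ Subgroup.comap (pull (PicF.XTmap f g)) (pull (PicF.XTproj f T')).range := by
  rintro _ ⟨M, rfl⟩
  refine ⟨pull g.left M, ?_⟩
  rw [← pull_comp, ← pull_comp, (InvDescLib.isPullback_map g).w]

/-- Pull-back of relative classes. -/
def relPull {T T' : Over S} (g : T' ⟶ T) : RelPic f T →* RelPic f T' :=
  QuotientGroup.map _ _ (pull (PicF.XTmap f g)) (le_comap f g)

theorem relPull_mk {T T' : Over S} (g : T' ⟶ T) (a : Pic (PicF.XT f T)) :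
    relPull f g (QuotientGroup.mk a) = QuotientGroup.mk (pull (PicF.XTmap f g) a) := rfl

/-- The class `O(x) ⊗ O(e)⁻¹` modulo classes from the base. -/
def psi {T : Over S} (x : T ⟶ Over.mk f) : RelPic f T :=
  QuotientGroup.mk (pt f x / pt f (basePt f e he T))

theorem relPull_psi {T T' : Over S} (g : T' ⟶ T) (x : T ⟶ Over.mk f) :
    relPull f g (psi f e he x) = psi f e he (g ≫ x) := by
  rw [psi, relPull_mk, map_div, pt_comp, pt_comp, comp_basePt]
  rfl

theorem psi_base (T : Over S) : psi f e he (basePt f e he T) = 1 := by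
  rw [psi, div_self']
  rfl

include hdim hg in
theorem psi_injective (T : Over S) : Function.Injective (psi f e he (T := T)) := by
  intro x y h
  rw [psi, psi, QuotientGroup.eq_iff_div_mem, div_div_div_cancel_right] at h
  obtain ⟨M, hM⟩ := h
  refine eq_of_pt_mul_eq f hdim hg (M := 1) (N := M) ?_
  rw [map_one, mul_one, hM, mul_div_cancel]

include hdim hg in
theorem exists_psi {T : Over S} {a : Pic (PicF.XT f T)} (ha : IsPZc f T a) (y : T ⟶ Over.mk f) :
    ∃ z, psi f e he z = QuotientGroup.mk a * psi f e he y := by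
  obtain ⟨N, hN, hNc⟩ := exists_cls (a * pt f y)
  obtain ⟨z, M, hz⟩ := exists_point_mul f hdim hg hN (deg_mul_pt f hdim ha y hN hNc)
  refine ⟨z, ?_⟩
  rw [psi, psi, ← QuotientGroup.mk_mul, QuotientGroup.eq_iff_div_mem, ← mul_div_assoc, div_div_div_cancel_right]
  refine ⟨M⁻¹, ?_⟩
  rw [map_inv, ← hNc, hz, div_mul_eq_div_div, div_self', one_div]

/-- The classes of points. -/
def ptGroup (T : Over S) : Subgroup (RelPic f T) :=
  { carrier := Set.range (psi f e he (T := T))
    one_mem' := ⟨_, psi_base f e he T⟩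
    mul_mem' := by
      rintro _ _ ⟨x, rfl⟩ ⟨y, rfl⟩
      exact exists_psi f hdim hg e he (isPZc_pt_div f hdim x (basePt f e he T)) y
    inv_mem' := by
      rintro _ ⟨x, rfl⟩
      obtain ⟨z, hz⟩ := exists_psi f hdim hg e he (isPZc_pt_div f hdim (basePt f e he T) x) (basePt f e he T)
      refine ⟨z, ?_⟩
      rw [hz, psi_base, mul_one, psi, ← QuotientGroup.mk_inv, inv_div] }

/-- The functor of classes of points. -/
def ptFunctor : (Over S)ᵒᵖ ⥤ CommGrpCat.{u + 1} where
  obj T := CommGrpCat.of (ptGroup f hdim hg e he T.unop)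
  map {T T'} g := CommGrpCat.ofHom
    { toFun := fun c => ⟨relPull f g.unop c.1, by
        obtain ⟨x, hx⟩ := c.2
        exact ⟨g.unop ≫ x, by rw [← relPull_psi, hx]⟩⟩
      map_one' := Subtype.ext (map_one _)
      map_mul' := fun a b => Subtype.ext (map_mul _ a.1 b.1) }
  map_id T := by
    ext ⟨_, x, rfl⟩
    show relPull f (𝟙 T.unop) (psi f e he x) = psi f e he x
    rw [relPull_psi, Category.id_comp]
  map_comp {T T' T''} g h := by
    ext ⟨_, x, rfl⟩
    show relPull f (h.unop ≫ g.unop) (psi f e he x) = relPull f h.unop (relPull f g.unop (psi f e he x))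
    rw [relPull_psi, relPull_psi, relPull_psi, Category.assoc]

/-- Points are their classes. -/
def ptRep : ((ptFunctor f hdim hg e he) ⋙ forget _).RepresentableBy (Over.mk f) where
  homEquiv {T} := Equiv.ofBijective (fun x => (⟨psi f e he x, x, rfl⟩ : ptGroup f hdim hg e he T))
    ⟨fun _ _ h => psi_injective f hdim hg e he T (congrArg Subtype.val h), fun ⟨_, x, hx⟩ => ⟨x, Subtype.ext hx⟩⟩
  homEquiv_comp {T T'} g x := Subtype.ext (relPull_psi f e he g x).symm

/-- The group law. -/
@[instance_reducible]
def ellGrp : GrpObj (Over.mk f) :=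
  GrpObj.ofRepresentableBy _ (ptFunctor f hdim hg e he ⋙ forget₂ CommGrpCat GrpCat) (ptRep f hdim hg e he)

theorem psi_mul {T : Over S} (x y : T ⟶ Over.mk f) :
    letI := ellGrp f hdim hg e he
    psi f e he (x * y) = psi f e he x * psi f e he y := by
  letI := ellGrp f hdim hg e he
  have hμ : psi f e he (MonObj.mul (X := Over.mk f)) =
      psi f e he (fst (Over.mk f) (Over.mk f)) * psi f e he (snd (Over.mk f) (Over.mk f)) :=
    congrArg Subtype.val ((ptRep f hdim hg e he).homEquiv.apply_symm_apply _)
  show psi f e he (lift x y ≫ MonObj.mul) = _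
  rw [← relPull_psi, hμ, map_mul, relPull_psi, relPull_psi, lift_fst, lift_snd]

theorem div_key {G : Type*} [CommGroup G] (x y z b : G) : x / b * (y / b) / (z / b) = x * y / (z * b) := by
  rw [div_mul_div_comm, div_div_div_eq, show b * b * z = z * b * b by ac_rfl, mul_div_mul_right_eq_div]

theorem psi_eq_mul_iff {T : Over S} (x y z : T ⟶ Over.mk f) :
    psi f e he x * psi f e he y = psi f e he z ↔
      ∃ M : Pic T.left, pt f x * pt f y = pt f z * pt f (basePt f e he T) * pull (PicF.XTproj f T) M := by
  rw [psi, psi, psi, ← QuotientGroup.mk_mul, QuotientGroup.eq_iff_div_mem, div_key]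
  exact exists_congr fun M => ⟨fun h => (div_eq_iff_eq_mul'.1 h.symm), fun h => (div_eq_iff_eq_mul'.2 h).symm⟩

theorem one_eq :
    letI := ellGrp f hdim hg e he
    MonObj.one (X := Over.mk f) = basePt f e he (𝟙_ (Over S)) := by
  letI := ellGrp f hdim hg e he
  refine psi_injective f hdim hg e he _ ?_
  rw [psi_base]
  exact congrArg Subtype.val ((ptRep f hdim hg e he).homEquiv.apply_symm_apply _)

theorem one_left :
    letI := ellGrp f hdim hg e he
    (MonObj.one (X := Over.mk f)).left = e := by
  letI := ellGrp f hdim hg e he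
  rw [one_eq]
  exact Category.id_comp e

theorem isCommMonObj :
    letI := ellGrp f hdim hg e he
    IsCommMonObj (Over.mk f) :=
  IsCommMonObj.ofRepresentableBy (Over.mk f) (ptFunctor f hdim hg e he ⋙ forget₂ CommGrpCat CommMonCat)
    (ptRep f hdim hg e he)

end Groth.Agent.EllGrpLib
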