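import Groth.Agent.EllGrpLib.Basic
import Groth.Agent.CurveFF.BC
import Groth.Agent.JacLib.Deg

/-!
# The group law over a field
-/

set_option autoImplicit false
set_option backward.isDefEq.respectTransparency false
set_option backward.isDefEq.respectTransparency.types false
set_option linter.style.haveILetI false

universe u

open CategoryTheory CategoryTheory.Limits AlgebraicGeometry MonoidalCategory CartesianMonoidalCategory
open scoped MonObj

noncomputable section

namespace Groth.Agent.EllGrpLib

theorem exists_grpObj_of_genus_one {k : Type u} [Field k] {E : Scheme.{u}} (p : E ⟶ Spec (CommRingCat.of k))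
    [IsProper p] [Smooth p] [GeometricallyConnected p] (hdim : topologicalKrullDim E = 1)
    (hg : @Curv2.genus k _ E ⟨p⟩ = 1)
    (e : Spec (CommRingCat.of k) ⟶ E) (he : e ≫ p = 𝟙 _) :
    ∃ h : GrpObj (Over.mk p), h.one.left = e ∧ @IsCommMonObj _ _ _ _ (Over.mk p) h.toMonObj := by
  letI : E.Over (Spec (CommRingCat.of k)) := ⟨p⟩
  haveI : IsProper (E ↘ Spec (CommRingCat.of k)) := ‹IsProper p›
  haveI : Coh.IsQCoh (Coh.structureModule E) :=
    PicDegLib.isQCoh_invertible ParaFLib.isInvertible_structureModule
  have hd : ∀ s, topologicalKrullDim ↥(p.fiber s) = 1 := fun s =>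
    (CurveFF.topologicalKrullDim_fiber_eq p s).trans hdim
  have hg1 : ∀ s, CohIII.fiberRank p (Coh.structureModule E) 1 s = 1 := fun s =>
    (JacLib.fiberRank_eq_finrank (k := k) (Coh.structureModule E) 1 s).trans hg
  haveI := JacLib.smoothOfRelativeDimension_one p hd
  exact ⟨ellGrp p hd hg1 e he, one_left p hd hg1 e he, isCommMonObj p hd hg1 e he⟩

end Groth.Agent.EllGrpLib
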